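import Cfsg.Agent.S1557
import Cfsg.Agent.SporadicStructure.SextetAction
import Cfsg.Agent.SporadicStructure.M24El
import Cfsg.Agent.SporadicA.GolayCount
import Cfsg.Agent.J4.M24Invol
set_option linter.all false

-- part: H866/InvCount
section
/-!
# Counting octads, trios and sextets invariant under a packed permutation

For `P` with `isPerm P = true` the numbers of octads, trios and sextets mapped to themselves by `permOf P` are
computable natural numbers `octInv P`, `trioInv P`, `sexInv P`, suitable for `decide +kernel`.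
-/

set_option autoImplicit false

namespace Cfsg.Agent.H866.InvCount

open Cfsg Finset
open Cfsg.Agent.SporadicA.GolayBase Cfsg.Agent.SporadicA.GolayPerm
open Cfsg.Agent.GolayTrio.Octads
open scoped Pointwise

/-- Counting the members of an injectively parametrised family with a property. -/
theorem ncard_eq_countP {α β : Type*} (L : List α) (hL : L.Nodup) (f : α → β) (Ω : Set β)
    (hΩ : Ω = f '' {m | m ∈ L}) (hf : Set.InjOn f {m | m ∈ L}) (p : β → Prop) (t : α → Bool)
    (ht : ∀ m ∈ L, p (f m) ↔ t m = true) : {x | x ∈ Ω ∧ p x}.ncard = L.countP t := by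
  classical
  have h1 : {x | x ∈ Ω ∧ p x} = f '' {m | m ∈ L.filter t} := by
    ext x
    simp only [Set.mem_ofPred_eq, hΩ, Set.mem_image, List.mem_filter]
    constructor
    · rintro ⟨⟨m, hm, rfl⟩, hp⟩
      exact ⟨m, ⟨hm, (ht m hm).1 hp⟩, rfl⟩
    · rintro ⟨m, ⟨hm, hp⟩, rfl⟩
      exact ⟨⟨m, hm, rfl⟩, (ht m hm).2 hp⟩
  have hf' : Set.InjOn f {m | m ∈ L.filter t} := fun a ha b hb h =>
    hf (List.mem_filter.1 ha).1 (List.mem_filter.1 hb).1 h
  rw [h1, hf'.ncard_image, List.countP_eq_length_filter]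
  have h2 : {m | m ∈ L.filter t} = ((L.filter t).toFinset : Set α) := by
    ext m
    simp
  rw [h2, Set.ncard_coe_finset, List.toFinset_card_of_nodup (hL.filter _)]

theorem bits_eq_fin (m : ℕ) : Cfsg.Agent.GolayTrio.Core.bits m = fin m := by
  ext p
  rw [Cfsg.Agent.GolayTrio.Core.mem_bits, mem_fin]
  cases p <;> rfl

/-! ### Octads -/

theorem octads_eq : octads = fin '' {m | m ∈ octMasks} := by
  ext o
  constructor
  · intro ho
    refine ⟨maskOf o, ?_, fin_maskOf o⟩
    have h1 : Cfsg.Agent.GolayTrio.Core.bits (maskOf o) ∈ octads := by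
      rw [bits_eq_fin, fin_maskOf]; exact ho
    exact (mem_octads_iff_mem _ (maskOf_lt o)).1 h1
  · rintro ⟨m, hm, rfl⟩
    rw [← bits_eq_fin]
    exact (mem_octads_iff_mem _ (octMasks_spec m hm).2.2).2 hm

theorem fin_injOn_oct : Set.InjOn fin {m | m ∈ octMasks} := fun a ha b hb h =>
  fin_injective (octMasks_spec a ha).2.2 (octMasks_spec b hb).2.2 h

/-- The number of octads invariant under the packed permutation `P`. -/
def octInv (P : ℕ) : ℕ := octMasks.countP fun m => Nat.beq (pimg P m) m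

theorem smul_fin_eq_iff {P : ℕ} (hP : isPerm P = true) {m : ℕ} (hm : m < 2 ^ 24) :
    permOf P hP • fin m = fin m ↔ Nat.beq (pimg P m) m = true := by
  rw [smul_fin, Nat.beq_eq]
  exact ⟨fun h => fin_injective (pimg_lt hP m) hm h, fun h => by rw [h]⟩

theorem ncard_octads_inv {P : ℕ} (hP : isPerm P = true) :
    {o : Finset GolayPt | o ∈ octads ∧ permOf P hP • o = o}.ncard = octInv P :=
  ncard_eq_countP octMasks octMasks_nodup fin octads octads_eq fin_injOn_oct _ _
    fun m hm => smul_fin_eq_iff hP (octMasks_spec m hm).2.2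

/-! ### Trios -/

/-- Whether `x, y, z` is a rearrangement of `a, b, c`. -/
def same3 (x y z a b c : ℕ) : Bool :=
  (Nat.beq x a && ((Nat.beq y b && Nat.beq z c) || (Nat.beq y c && Nat.beq z b))) ||
  (Nat.beq x b && ((Nat.beq y a && Nat.beq z c) || (Nat.beq y c && Nat.beq z a))) ||
  (Nat.beq x c && ((Nat.beq y a && Nat.beq z b) || (Nat.beq y b && Nat.beq z a)))

theorem same3_iff {x y z a b c : ℕ} (hab : a ≠ b) (hac : a ≠ c) (hbc : b ≠ c) :
    same3 x y z a b c = true ↔ ({x, y, z} : Finset ℕ) = {a, b, c} := by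
  unfold same3
  simp only [Bool.or_eq_true, Bool.and_eq_true, Nat.beq_eq]
  constructor
  · rintro ((⟨rfl, ⟨rfl, rfl⟩ | ⟨rfl, rfl⟩⟩ | ⟨rfl, ⟨rfl, rfl⟩ | ⟨rfl, rfl⟩⟩) |
      ⟨rfl, ⟨rfl, rfl⟩ | ⟨rfl, rfl⟩⟩) <;> ext s <;> simp only [mem_insert, mem_singleton] <;> tauto
  · intro h
    have e1 : x ∈ ({a, b, c} : Finset ℕ) := by rw [← h]; simp
    have e2 : y ∈ ({a, b, c} : Finset ℕ) := by rw [← h]; simp
    have e3 : z ∈ ({a, b, c} : Finset ℕ) := by rw [← h]; simp
    have e4 : a ∈ ({x, y, z} : Finset ℕ) := by rw [h]; simp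
    have e5 : b ∈ ({x, y, z} : Finset ℕ) := by rw [h]; simp
    have e6 : c ∈ ({x, y, z} : Finset ℕ) := by rw [h]; simp
    simp only [mem_insert, mem_singleton] at e1 e2 e3 e4 e5 e6
    omega

/-- Invariance test for a trio given by two masks. -/
def trioTest (P a b : ℕ) : Bool :=
  same3 (pimg P a) (pimg P b) (pimg P (16777215 ^^^ a ^^^ b)) a b (16777215 ^^^ a ^^^ b)

/-- Inner loop of the count of invariant trios. -/
def cntT (P : ℕ) : List ℕ → ℕ → ℕ
  | [], _ => 0
  | b :: bs, a => (if (Cfsg.Agent.S1557.good a b && trioTest P a b) = true then 1 else 0) +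
      cntT P bs a

/-- Outer loop of the count of invariant trios. -/
def cntT2 (P : ℕ) : List ℕ → ℕ
  | [] => 0
  | a :: as => (if Nat.blt a 8388608 = true then 0 else cntT P octMasks a) + cntT2 P as

/-- The number of trios invariant under the packed permutation `P`. -/
def trioInv (P : ℕ) : ℕ := cntT2 P octMasks

theorem cntT_eq (P : ℕ) (L : List ℕ) (a : ℕ) :
    cntT P L a = (L.map fun b => if (Cfsg.Agent.S1557.good a b && trioTest P a b) = true then 1
      else 0).sum := by
  induction L with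
  | nil => rfl
  | cons b bs ih => rw [cntT, ih, List.map_cons, List.sum_cons]

theorem cntT2_eq_sum (P : ℕ) (L : List ℕ) :
    cntT2 P L = (L.map fun a => if Nat.blt a 8388608 = true then 0 else cntT P octMasks a).sum := by
  induction L with
  | nil => rfl
  | cons b bs ih => rw [cntT2, ih, List.map_cons, List.sum_cons]

theorem card_filter_S (P : ℕ) :
    (Cfsg.Agent.S1557.S.filter fun x => trioTest P x.1 x.2 = true).card = trioInv P := by
  rw [Cfsg.Agent.S1557.S, Finset.filter_filter, Finset.card_filter, Finset.sum_product,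
    List.sum_toFinset _ octMasks_nodup, trioInv, cntT2_eq_sum]
  congr 1
  refine List.map_congr_left fun a _ => ?_
  rw [List.sum_toFinset _ octMasks_nodup, cntT_eq]
  by_cases h : Nat.blt a 8388608 = true
  · rw [if_pos h]
    rw [Nat.blt_eq] at h
    have h' : ¬ 8388608 ≤ a := by omega
    simp only [h', false_and, if_false, List.map_const', List.sum_replicate, smul_zero]
  · rw [if_neg h]
    rw [Nat.blt_eq] at h
    have h' : 8388608 ≤ a := by omega
    simp only [h', true_and, Bool.and_eq_true]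

theorem smul_F_eq_iff {P : ℕ} (hP : isPerm P = true) {x : ℕ × ℕ} (hx : x ∈ Cfsg.Agent.S1557.S) :
    permOf P hP • Cfsg.Agent.S1557.F x = Cfsg.Agent.S1557.F x ↔ trioTest P x.1 x.2 = true := by
  obtain ⟨a, b⟩ := x
  obtain ⟨ha, hb, _, hab, hcb, hba⟩ := Cfsg.Agent.S1557.mem_S.1 hx
  have ha' := Cfsg.Agent.S1557.octMasks_lt ha
  have hb' := Cfsg.Agent.S1557.octMasks_lt hb
  have hc' : 16777215 ^^^ a ^^^ b < 2 ^ 24 := lt_trans hcb hb'
  unfold trioTest Cfsg.Agent.S1557.F
  dsimp only
  rw [same3_iff (by omega) (by omega) (by omega)]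
  simp only [bits_eq_fin]
  rw [Finset.smul_finset_insert, Finset.smul_finset_insert, Finset.smul_finset_singleton,
    smul_fin, smul_fin, smul_fin]
  constructor
  · intro h
    have := congrArg (fun T => T.image maskOf) h
    simp only [Finset.image_insert, Finset.image_singleton] at this
    rwa [maskOf_fin (pimg_lt hP _), maskOf_fin (pimg_lt hP _), maskOf_fin (pimg_lt hP _),
      maskOf_fin ha', maskOf_fin hb', maskOf_fin hc'] at this
  · intro h
    have := congrArg (fun T => T.image fin) h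
    simpa only [Finset.image_insert, Finset.image_singleton] using this

theorem ncard_trios_inv {P : ℕ} (hP : isPerm P = true) :
    {T : Finset (Finset GolayPt) | T ∈ trios ∧ permOf P hP • T = T}.ncard = trioInv P := by
  classical
  have h1 : {T : Finset (Finset GolayPt) | T ∈ trios ∧ permOf P hP • T = T} =
      Cfsg.Agent.S1557.F ''
        ((Cfsg.Agent.S1557.S.filter fun x => trioTest P x.1 x.2 = true : Finset (ℕ × ℕ)) :
          Set (ℕ × ℕ)) := by
    ext T
    rw [Cfsg.Agent.S1557.trios_eq]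
    simp only [Set.mem_ofPred_eq, Set.mem_image, Finset.coe_filter, Finset.mem_coe]
    constructor
    · rintro ⟨⟨x, hx, rfl⟩, hp⟩
      exact ⟨x, ⟨hx, (smul_F_eq_iff hP hx).1 hp⟩, rfl⟩
    · rintro ⟨x, ⟨hx, hp⟩, rfl⟩
      exact ⟨⟨x, hx, rfl⟩, (smul_F_eq_iff hP hx).2 hp⟩
  rw [h1, Set.InjOn.ncard_image (Cfsg.Agent.S1557.F_injOn.mono (fun m hm => by
    rw [Finset.mem_coe, Finset.mem_filter] at hm; exact hm.1)), Set.ncard_coe_finset, card_filter_S]

/-! ### Sextets -/

/-- The masks `2 ^ 23 + 2 ^ i + 2 ^ j + 2 ^ k` with `23 > i > j > k`. -/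
def tetMasks : List ℕ :=
  (List.range 23).flatMap fun i => (List.range i).flatMap fun j => (List.range j).map fun k =>
    8388608 ||| 2 ^ i ||| 2 ^ j ||| 2 ^ k

theorem mem_tetMasks {m : ℕ} : m ∈ tetMasks ↔
    ∃ i < 23, ∃ j < i, ∃ k < j, m = 8388608 ||| 2 ^ i ||| 2 ^ j ||| 2 ^ k := by
  unfold tetMasks
  simp only [List.mem_flatMap, List.mem_map, List.mem_range]
  constructor
  · rintro ⟨i, hi, j, hj, k, hk, rfl⟩
    exact ⟨i, hi, j, hj, k, hk, rfl⟩
  · rintro ⟨i, hi, j, hj, k, hk, rfl⟩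
    exact ⟨i, hi, j, hj, k, hk, rfl⟩

theorem tetMasks_nodup : tetMasks.Nodup := by
  have h : Cfsg.Agent.SporadicA.GolayCount.sortedB tetMasks = true := by decide +kernel
  exact (Cfsg.Agent.SporadicA.GolayCount.sortedB_pairwise _ h).imp fun h => ne_of_lt h

theorem tetMasks_spec : ∀ m ∈ tetMasks, m < 2 ^ 24 ∧ popcount m = 4 ∧ m.testBit 23 = true := by
  have h : (tetMasks.all fun m => Nat.blt m 16777216 && Nat.beq (popcount m) 4 && m.testBit 23) =
      true := by decide +kernel
  intro m hm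
  have := List.all_eq_true.1 h m hm
  rw [Bool.and_eq_true, Bool.and_eq_true, Nat.blt_eq, Nat.beq_eq] at this
  exact ⟨this.1.1, this.1.2, this.2⟩

theorem fin_two_pow {i : ℕ} (hi : i < 24) : fin (2 ^ i) = {pt i} := by
  ext p
  rw [mem_fin, Nat.testBit_two_pow, decide_eq_true_iff, mem_singleton]
  constructor
  · intro h
    rw [h, pt_idx]
  · rintro rfl
    exact (idx_pt hi).symm

theorem mask_of_three {i j k : ℕ} (hi : i < 23) (hj : j < 23) (hk : k < 23)
    (hij : i ≠ j) (hik : i ≠ k) (hjk : j ≠ k) :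
    8388608 ||| 2 ^ i ||| 2 ^ j ||| 2 ^ k ∈ tetMasks := by
  have key : ∀ a b c : ℕ, a < 23 → b < a → c < b → 8388608 ||| 2 ^ a ||| 2 ^ b ||| 2 ^ c ∈ tetMasks :=
    fun a b c ha hb hc => mem_tetMasks.2 ⟨a, ha, b, hb, c, hc, rfl⟩
  have s1 : ∀ a b c : ℕ, 8388608 ||| 2 ^ a ||| 2 ^ b ||| 2 ^ c = 8388608 ||| 2 ^ b ||| 2 ^ a ||| 2 ^ c := by
    intro a b c; ac_rfl
  have s2 : ∀ a b c : ℕ, 8388608 ||| 2 ^ a ||| 2 ^ b ||| 2 ^ c = 8388608 ||| 2 ^ a ||| 2 ^ c ||| 2 ^ b := by
    intro a b c; ac_rfl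
  rcases lt_or_gt_of_ne hij with h1 | h1 <;> rcases lt_or_gt_of_ne hik with h2 | h2 <;>
    rcases lt_or_gt_of_ne hjk with h3 | h3
  · rw [s1, s2, s1]; exact key _ _ _ hk h3 h1
  · rw [s1, s2]; exact key _ _ _ hj h3 h2
  · omega
  · rw [s1]; exact key _ _ _ hj h1 h2
  · rw [s2, s1]; exact key _ _ _ hk h2 h1
  · omega
  · rw [s2]; exact key _ _ _ hi h2 h3
  · exact key _ _ _ hi h1 h3

theorem idx_lt_of_ne_none {p : GolayPt} (hp : p ≠ none) : idx p < 23 := by
  revert p; decide

theorem exists_mask {t : Finset GolayPt} (ht : t.card = 4) (hn : none ∈ t) :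
    ∃ m ∈ tetMasks, fin m = t := by
  have h3 : (t.erase none).card = 3 := by rw [card_erase_of_mem hn, ht]
  obtain ⟨x, y, z, hxy, hxz, hyz, he⟩ := card_eq_three.1 h3
  have hx : x ≠ none := by
    have : x ∈ t.erase none := by rw [he]; simp
    exact (mem_erase.1 this).1
  have hy : y ≠ none := by
    have : y ∈ t.erase none := by rw [he]; simp
    exact (mem_erase.1 this).1
  have hz : z ≠ none := by
    have : z ∈ t.erase none := by rw [he]; simp
    exact (mem_erase.1 this).1
  refine ⟨_, mask_of_three (idx_lt_of_ne_none hx) (idx_lt_of_ne_none hy) (idx_lt_of_ne_none hz)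
    (fun h => hxy (idx_injective h)) (fun h => hxz (idx_injective h))
    (fun h => hyz (idx_injective h)), ?_⟩
  rw [fin_or, fin_or, fin_or, show (8388608 : ℕ) = 2 ^ 23 by norm_num, fin_two_pow (by norm_num),
    fin_two_pow (idx_lt x), fin_two_pow (idx_lt y), fin_two_pow (idx_lt z), pt_idx, pt_idx, pt_idx,
    ← insert_erase hn, he]
  ext p
  simp only [mem_union, mem_singleton, mem_insert]
  have : pt 23 = none := by decide
  rw [this]
  tauto

/-- The sextet of a mask. -/
noncomputable def sx (m : ℕ) : Finset (Finset GolayPt) :=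
  Cfsg.Agent.SporadicStructure.Sextet.sextetOf (fin m)

theorem card_fin_tet {m : ℕ} (hm : m ∈ tetMasks) : (fin m).card = 4 := by
  rw [Cfsg.Agent.SporadicA.GolayBase.card_fin]
  exact (tetMasks_spec m hm).2.1

theorem none_mem_fin {m : ℕ} (hm : m ∈ tetMasks) : none ∈ fin m := by
  rw [mem_fin]
  exact (tetMasks_spec m hm).2.2

theorem sextets_eq : sextets = sx '' {m | m ∈ tetMasks} := by
  ext S
  constructor
  · intro hS
    obtain ⟨t, ht, hn⟩ := Cfsg.Agent.SporadicStructure.Sextet.exists_mem_of_sextet hS none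
    obtain ⟨m, hm, rfl⟩ := exists_mask (hS.2.1 t ht) hn
    exact ⟨m, hm, (Cfsg.Agent.SporadicStructure.SextetAction.eq_sextetOf hS ht).symm⟩
  · rintro ⟨m, hm, rfl⟩
    exact Cfsg.Agent.SporadicStructure.SextetAction.sextetOf_mem (card_fin_tet hm)

theorem sx_injOn : Set.InjOn sx {m | m ∈ tetMasks} := by
  intro a ha b hb h
  have hS := Cfsg.Agent.SporadicStructure.SextetAction.sextetOf_mem (card_fin_tet hb)
  have h1 : fin a ∈ sx b := by
    rw [← h]; exact Cfsg.Agent.SporadicStructure.Sextet.self_mem_sextetOf _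
  have h2 : fin b ∈ sx b := Cfsg.Agent.SporadicStructure.Sextet.self_mem_sextetOf _
  by_contra hne
  have hne' : fin a ≠ fin b := fun e =>
    hne (fin_injective (tetMasks_spec a ha).1 (tetMasks_spec b hb).1 e)
  exact disjoint_left.1 (Cfsg.Agent.SporadicStructure.Sextet.disjoint_of_mem hS h1 h2 hne')
    (none_mem_fin ha) (none_mem_fin hb)

/-- The number of sextets invariant under the packed permutation `P`. -/
def sexInv (P : ℕ) : ℕ := tetMasks.countP fun m => isCode (m ^^^ pimg P m)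

theorem smul_sx_eq_iff {P : ℕ} (hP : isPerm P = true) (hM : permOf P hP ∈ M24) {m : ℕ}
    (hm : m ∈ tetMasks) : permOf P hP • sx m = sx m ↔ isCode (m ^^^ pimg P m) = true := by
  have hc := card_fin_tet hm
  have hlt := (tetMasks_spec m hm).1
  have hc' : (permOf P hP • fin m).card = 4 := by rw [card_smul_finset, hc]
  have hx : symmDiff (fin m) (permOf P hP • fin m) ∈ supports (golayCode : Set (GolayPt → ZMod 2)) ↔
      isCode (m ^^^ pimg P m) = true := by
    rw [smul_fin, ← fin_xor, fin_mem_supports_iff (Nat.xor_lt_two_pow hlt (pimg_lt hP m))]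
  unfold sx
  rw [Cfsg.Agent.SporadicStructure.SextetAction.smul_sextetOf hM hc, ← hx]
  constructor
  · intro h
    apply Cfsg.Agent.SporadicStructure.SextetAction.symmDiff_mem
      (Cfsg.Agent.SporadicStructure.SextetAction.sextetOf_mem hc)
    · exact Cfsg.Agent.SporadicStructure.Sextet.self_mem_sextetOf _
    · rw [← h]; exact Cfsg.Agent.SporadicStructure.Sextet.self_mem_sextetOf _
  · intro h
    exact (Cfsg.Agent.SporadicStructure.SextetAction.sextetOf_eq hc hc' h).symm

theorem ncard_sextets_inv {P : ℕ} (hP : isPerm P = true) (hM : permOf P hP ∈ M24) :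
    {S : Finset (Finset GolayPt) | S ∈ sextets ∧ permOf P hP • S = S}.ncard = sexInv P :=
  ncard_eq_countP tetMasks tetMasks_nodup sx sextets sextets_eq sx_injOn _ _
    fun _ hm => smul_sx_eq_iff hP hM hm

/-! ### Conjugation -/

/-- The number of members of an invariant family fixed by `g` only depends on the class of `g`. -/
theorem ncard_conj {G β : Type*} [Group G] [MulAction G β] (Ω : Set β) (g h : G)
    (hΩ : ∀ x, h • x ∈ Ω ↔ x ∈ Ω) :
    {x | x ∈ Ω ∧ (h * g * h⁻¹) • x = x}.ncard = {x | x ∈ Ω ∧ g • x = x}.ncard := by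
  have h1 : {x | x ∈ Ω ∧ (h * g * h⁻¹) • x = x} = (fun x => h • x) '' {x | x ∈ Ω ∧ g • x = x} := by
    ext x
    simp only [Set.mem_ofPred_eq, Set.mem_image]
    constructor
    · rintro ⟨hx, hg⟩
      refine ⟨h⁻¹ • x, ⟨?_, ?_⟩, smul_inv_smul h x⟩
      · rw [← hΩ, smul_inv_smul]; exact hx
      · rw [mul_smul, mul_smul] at hg
        have h2 := congrArg (fun y => h⁻¹ • y) hg
        simpa only [inv_smul_smul] using h2
    · rintro ⟨y, ⟨hy, hg⟩, rfl⟩
      refine ⟨(hΩ y).2 hy, ?_⟩
      rw [mul_smul, mul_smul, inv_smul_smul, hg]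
  rw [h1, Set.ncard_image_of_injective _ (MulAction.injective h)]

end Cfsg.Agent.H866.InvCount
end

-- part: H866/InvolType
section
/-!
# The two types of involutions of `M24`, with fixed points

`invol_type` : an involution of `M24` is conjugate to `permOf P1` and has 8 fixed points, or is conjugate to
`permOf P2` and has no fixed point.
-/

set_option autoImplicit false

namespace Cfsg.Agent.H866.InvolType

open Cfsg Finset
open Cfsg.Agent.SporadicA.GolayBase Cfsg.Agent.SporadicA.GolayPerm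
open Cfsg.Agent.SporadicStructure.M24El Cfsg.Agent.J4.M24InvolData
open Cfsg.Agent.H866.InvCount
open scoped Pointwise

/-- The number of fixed points. -/
def fx (g : Equiv.Perm GolayPt) : ℕ := (Finset.univ.filter fun p => g p = p).card

theorem fx_eq_ncard (g : Equiv.Perm GolayPt) :
    fx g = {p : GolayPt | p ∈ (Set.univ : Set GolayPt) ∧ g • p = p}.ncard := by
  unfold fx
  rw [← Set.ncard_coe_finset]
  congr 1
  ext p
  simp

theorem fx_conj (g h : Equiv.Perm GolayPt) : fx (h * g * h⁻¹) = fx g := by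
  rw [fx_eq_ncard, fx_eq_ncard]
  exact ncard_conj Set.univ g h (fun x => by simp)

theorem fx_permOf {P : ℕ} (hP : isPerm P = true) :
    fx (permOf P hP) = (List.range 24).countP fun i => Nat.beq (papp P i) i := by
  rw [fx_eq_ncard]
  refine ncard_eq_countP (List.range 24) List.nodup_range pt Set.univ ?_ ?_ _ _ ?_
  · ext p
    simp only [Set.mem_univ, Set.mem_image, Set.mem_ofPred_eq, List.mem_range, true_iff]
    exact ⟨idx p, idx_lt p, pt_idx p⟩
  · intro a ha b hb h
    have ha' : a < 24 := List.mem_range.1 ha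
    have hb' : b < 24 := List.mem_range.1 hb
    rw [← idx_pt ha', ← idx_pt hb', h]
  · intro m hm
    have hm' : m < 24 := List.mem_range.1 hm
    rw [Nat.beq_eq]
    have h1 : permOf P hP • pt m = pt (papp P m) := by
      rw [Equiv.Perm.smul_def, permOf_apply, idx_pt hm']
    rw [h1]
    constructor
    · intro h
      have := congrArg idx h
      rwa [idx_pt (papp_lt hP hm'), idx_pt hm'] at this
    · intro h
      rw [h]

theorem isPerm_P1 : isPerm P1 = true := (ok_iff.1 Cfsg.Agent.J4.M24Invol.ok_P1).1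
theorem isPerm_P2 : isPerm P2 = true := (ok_iff.1 Cfsg.Agent.J4.M24Invol.ok_P2).1

/-- The involution of type `1^8 2^8`. -/
noncomputable def t1 : Equiv.Perm GolayPt := permOf P1 isPerm_P1
/-- The involution of type `2^12`. -/
noncomputable def t2 : Equiv.Perm GolayPt := permOf P2 isPerm_P2

theorem t1_mem : t1 ∈ M24 := permOf_mem_M24 isPerm_P1 (ok_iff.1 Cfsg.Agent.J4.M24Invol.ok_P1).2
theorem t2_mem : t2 ∈ M24 := permOf_mem_M24 isPerm_P2 (ok_iff.1 Cfsg.Agent.J4.M24Invol.ok_P2).2

theorem coe_el_P1 : (el P1 : Equiv.Perm GolayPt) = t1 := coe_el Cfsg.Agent.J4.M24Invol.ok_P1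
theorem coe_el_P2 : (el P2 : Equiv.Perm GolayPt) = t2 := coe_el Cfsg.Agent.J4.M24Invol.ok_P2

theorem fx_t1 : fx t1 = 8 := by
  rw [t1, fx_permOf]
  decide +kernel

theorem fx_t2 : fx t2 = 0 := by
  rw [t2, fx_permOf]
  decide +kernel

/-- The two types of involutions of `M24`. -/
theorem invol_type {g : Equiv.Perm GolayPt} (hg : g ∈ M24) (h2 : orderOf g = 2) :
    ∃ h ∈ M24, (h * g * h⁻¹ = t1 ∧ fx g = 8) ∨ (h * g * h⁻¹ = t2 ∧ fx g = 0) := by
  have hu : (⟨g, hg⟩ : M24) * ⟨g, hg⟩ = 1 := by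
    apply Subtype.ext
    change g * g = 1
    rw [← pow_two, ← h2, pow_orderOf_eq_one]
  have h1 : (⟨g, hg⟩ : M24) ≠ 1 := by
    intro h
    have h' : g = 1 := congrArg Subtype.val h
    rw [h', orderOf_one] at h2
    exact absurd h2 (by decide)
  obtain ⟨h, hh⟩ := Cfsg.Agent.J4.M24Invol.invol_conj _ hu h1
  refine ⟨h, h.2, ?_⟩
  rcases hh with hh | hh
  · left
    have e : (h : Equiv.Perm GolayPt) * g * (h : Equiv.Perm GolayPt)⁻¹ = t1 := by
      rw [← coe_el_P1, ← hh]; rfl
    refine ⟨e, ?_⟩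
    rw [← fx_conj g h, e, fx_t1]
  · right
    have e : (h : Equiv.Perm GolayPt) * g * (h : Equiv.Perm GolayPt)⁻¹ = t2 := by
      rw [← coe_el_P2, ← hh]; rfl
    refine ⟨e, ?_⟩
    rw [← fx_conj g h, e, fx_t2]

theorem smul_mem_sextets_iff {h : Equiv.Perm GolayPt} (hh : h ∈ M24) (S : Finset (Finset GolayPt)) :
    h • S ∈ sextets ↔ S ∈ sextets := by
  constructor
  · intro hS
    have := Cfsg.Agent.SporadicStructure.SextetAction.smul_mem_sextets (M24.inv_mem hh) hS
    rwa [inv_smul_smul] at this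
  · exact Cfsg.Agent.SporadicStructure.SextetAction.smul_mem_sextets hh

theorem smul_octad_mem_iff {h : Equiv.Perm GolayPt} (hh : h ∈ M24) (o : Finset GolayPt) :
    h • o ∈ octads ↔ o ∈ octads := smul_mem_octads hh

theorem smul_mem_trios_aux {g : Equiv.Perm GolayPt} (hg : g ∈ M24) {T : Finset (Finset GolayPt)}
    (hT : T ∈ trios) : g • T ∈ trios := by
  obtain ⟨h1, h2, h3⟩ := hT
  refine ⟨by rw [Finset.card_smul_finset]; exact h1, ?_, ?_⟩
  · intro o ho
    obtain ⟨o', ho', rfl⟩ := Finset.mem_smul_finset.1 ho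
    exact (smul_mem_octads hg).2 (h2 o' ho')
  · intro o ho p hp hop
    obtain ⟨o', ho', rfl⟩ := Finset.mem_smul_finset.1 ho
    obtain ⟨p', hp', rfl⟩ := Finset.mem_smul_finset.1 hp
    have h4 := h3 o' ho' p' hp' (fun h => hop (by rw [h]))
    rw [Finset.disjoint_left] at h4 ⊢
    intro x hx hx'
    obtain ⟨y, hy, rfl⟩ := Finset.mem_smul_finset.1 hx
    rw [Finset.smul_mem_smul_finset_iff] at hx'
    exact h4 hy hx'

theorem smul_mem_trios_iff {h : Equiv.Perm GolayPt} (hh : h ∈ M24) (T : Finset (Finset GolayPt)) :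
    h • T ∈ trios ↔ T ∈ trios := by
  constructor
  · intro hT
    have := smul_mem_trios_aux (M24.inv_mem hh) hT
    rwa [inv_smul_smul] at this
  · exact smul_mem_trios_aux hh

/-- The numbers of invariant octads, trios and sextets of an element conjugate to a packed one. -/
theorem counts_of_conj {P : ℕ} (hP : isPerm P = true) (hM : permOf P hP ∈ M24)
    {g h : Equiv.Perm GolayPt} (hh : h ∈ M24) (e : h * g * h⁻¹ = permOf P hP) :
    {o : Finset GolayPt | o ∈ octads ∧ g • o = o}.ncard = octInv P ∧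
    {T : Finset (Finset GolayPt) | T ∈ trios ∧ g • T = T}.ncard = trioInv P ∧
    {S : Finset (Finset GolayPt) | S ∈ sextets ∧ g • S = S}.ncard = sexInv P := by
  refine ⟨?_, ?_, ?_⟩
  · rw [← ncard_conj octads g h (smul_octad_mem_iff hh), e, ncard_octads_inv]
  · rw [← ncard_conj trios g h (smul_mem_trios_iff hh), e, ncard_trios_inv]
  · rw [← ncard_conj sextets g h (smul_mem_sextets_iff hh), e, ncard_sextets_inv hP hM]

end Cfsg.Agent.H866.InvolType
end
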